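import Groth.Prelude.Def_W4c6eohyperellchar2Gc
import Mathlib.Algebra.CharP.Two
import Mathlib.LinearAlgebra.Pi
import Mathlib.LinearAlgebra.Span.Basic

/-!
# The explicit Dieudonné module: basic computations
-/

set_option autoImplicit false

universe u

noncomputable section

namespace Groth.Agent.DieuGc29

open W4c6eohyperellchar2

variable {c : ℕ} {k : Type u} [Field k]

theorem coefX_X (n m : ℕ) : coefX (X c k n) m = if 1 ≤ m ∧ m ≤ c ∧ m = n then 1 else 0 := by
  unfold coefX X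
  by_cases h : 1 ≤ m ∧ m ≤ c
  · rw [dif_pos h]
    by_cases h' : m = n
    · rw [if_pos ⟨h.1, h.2, h'⟩]
      exact if_pos (by show m - 1 + 1 = n; omega)
    · rw [if_neg (fun hh => h' hh.2.2)]
      exact if_neg (by show ¬ m - 1 + 1 = n; omega)
  · rw [dif_neg h, if_neg (fun hh => h ⟨hh.1, hh.2.1⟩)]

theorem coefY_Y (n m : ℕ) : coefY (Y c k n) m = if 1 ≤ m ∧ m ≤ c ∧ m = n then 1 else 0 := by
  unfold coefY Y
  by_cases h : 1 ≤ m ∧ m ≤ c
  · rw [dif_pos h]
    by_cases h' : m = n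
    · rw [if_pos ⟨h.1, h.2, h'⟩]
      exact if_pos (by show m - 1 + 1 = n; omega)
    · rw [if_neg (fun hh => h' hh.2.2)]
      exact if_neg (by show ¬ m - 1 + 1 = n; omega)
  · rw [dif_neg h, if_neg (fun hh => h ⟨hh.1, hh.2.1⟩)]

theorem coefY_X (n m : ℕ) : coefY (X c k n) m = 0 := by
  unfold coefY X
  split_ifs <;> simp

theorem coefX_Y (n m : ℕ) : coefX (Y c k n) m = 0 := by
  unfold coefX Y
  split_ifs <;> simp

theorem F_X_two_mul {j : ℕ} (h1 : 1 ≤ j) (h2 : 2 * j ≤ c) : F c k (X c k (2 * j)) = X c k j := by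
  refine Prod.ext (funext fun i => ?_) (funext fun i => ?_)
  · show coefX (X c k (2 * j)) (2 * (i.val + 1)) ^ 2 = if i.val + 1 = j then 1 else 0
    rw [coefX_X]
    split_ifs <;> first | (exfalso; omega) | simp
  · show coefX (X c k (2 * j)) (2 * (c - (i.val + 1)) + 1) ^ 2 = 0
    rw [coefX_X, if_neg (by omega)]
    simp

theorem F_X_odd {l : ℕ} (hl : Odd l) (h2 : l ≤ c) : F c k (X c k l) = Y c k (c - (l - 1) / 2) := by
  obtain ⟨t, rfl⟩ := hl
  refine Prod.ext (funext fun i => ?_) (funext fun i => ?_)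
  · show coefX (X c k (2 * t + 1)) (2 * (i.val + 1)) ^ 2 = 0
    rw [coefX_X, if_neg (by omega)]
    simp
  · have := i.isLt
    show coefX (X c k (2 * t + 1)) (2 * (c - (i.val + 1)) + 1) ^ 2 = if i.val + 1 = c - (2 * t + 1 - 1) / 2 then 1 else 0
    rw [coefX_X]
    split_ifs <;> first | (exfalso; omega) | simp

theorem iterate_F_X {l : ℕ} (hl : 1 ≤ l) : ∀ e : ℕ, 2 ^ e * l ≤ c → (F c k)^[e] (X c k (2 ^ e * l)) = X c k l := by
  intro e
  induction e with
  | zero => intro _; simp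
  | succ e ih =>
    intro h
    have e2 : 2 ^ (e + 1) * l = 2 * (2 ^ e * l) := by ring
    rw [e2] at h ⊢
    rw [Function.iterate_succ_apply, F_X_two_mul (Nat.one_le_iff_ne_zero.2 (by positivity)) h]
    exact ih (by omega)

variable [CharP k 2] [PerfectRing k 2]

theorem V_Y {j : ℕ} (h1 : 1 ≤ j) (h2 : 2 * j ≤ c) : V c k (Y c k j) = Y c k (2 * j) := by
  refine Prod.ext rfl (funext fun i => ?_)
  show (if (i.val + 1) % 2 = 0 then (frobeniusEquiv k 2).symm (coefY (Y c k j) ((i.val + 1) / 2))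
    else (frobeniusEquiv k 2).symm (coefX (Y c k j) ((2 * c - i.val) / 2))) = if i.val + 1 = 2 * j then 1 else 0
  have := i.isLt
  rw [coefX_Y, coefY_Y, map_zero]
  split_ifs <;> first | (exfalso; omega) | simp

theorem V_X {j : ℕ} (h1 : c < 2 * j) (h2 : j ≤ c) : V c k (X c k j) = Y c k (2 * c - 2 * j + 1) := by
  refine Prod.ext rfl (funext fun i => ?_)
  show (if (i.val + 1) % 2 = 0 then (frobeniusEquiv k 2).symm (coefY (X c k j) ((i.val + 1) / 2))
    else (frobeniusEquiv k 2).symm (coefX (X c k j) ((2 * c - i.val) / 2))) =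
      if i.val + 1 = 2 * c - 2 * j + 1 then 1 else 0
  have := i.isLt
  rw [coefX_X, coefY_X, map_zero]
  split_ifs <;> first | (exfalso; omega) | simp

theorem iterate_V_Y {m : ℕ} (hm : 1 ≤ m) : ∀ n : ℕ, 2 ^ n * m ≤ c → (V c k)^[n] (Y c k m) = Y c k (2 ^ n * m) := by
  intro n
  induction n with
  | zero => intro _; simp
  | succ n ih =>
    intro h
    have e2 : 2 ^ (n + 1) * m = 2 * (2 ^ n * m) := by ring
    rw [e2] at h ⊢
    rw [Function.iterate_succ_apply', ih (by omega), V_Y (Nat.one_le_iff_ne_zero.2 (by positivity)) h]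

omit [CharP k 2] [PerfectRing k 2] in
theorem decompose (v : GcMod c k) :
    v = ∑ i : Fin c, v.1 i • X c k (i.val + 1) + ∑ i : Fin c, v.2 i • Y c k (i.val + 1) := by
  classical
  refine Prod.ext (funext fun a => ?_) (funext fun a => ?_)
  · rw [Prod.fst_add, Prod.fst_sum, Prod.fst_sum, Pi.add_apply, Finset.sum_apply, Finset.sum_apply]
    simp only [X, Y, Prod.smul_fst, Pi.smul_apply, smul_eq_mul, mul_ite, mul_one, mul_zero, Pi.zero_apply,
      Finset.sum_const_zero, add_zero, add_left_inj, Fin.val_inj, Finset.sum_ite_eq, Finset.mem_univ, if_true]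
  · rw [Prod.snd_add, Prod.snd_sum, Prod.snd_sum, Pi.add_apply, Finset.sum_apply, Finset.sum_apply]
    simp only [X, Y, Prod.smul_snd, Pi.smul_apply, smul_eq_mul, mul_ite, mul_one, mul_zero, Pi.zero_apply,
      Finset.sum_const_zero, zero_add, add_left_inj, Fin.val_inj, Finset.sum_ite_eq, Finset.mem_univ, if_true]

/-- A subspace stable under `F`, `V` containing the top `X`s is everything. -/
theorem Y_mem {N : Submodule k (GcMod c k)} (hV : ∀ v ∈ N, V c k v ∈ N)
    (hX : ∀ j : ℕ, c < 2 * j → j ≤ c → X c k j ∈ N) : ∀ m : ℕ, 1 ≤ m → m ≤ c → Y c k m ∈ N := by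
  intro m
  induction m using Nat.strong_induction_on with
  | _ m ih =>
    intro h1 h2
    rcases Nat.even_or_odd' m with ⟨t, rfl | rfl⟩
    · rw [← V_Y (j := t) (by omega) h2]
      exact hV _ (ih t (by omega) (by omega) (by omega))
    · rw [show 2 * t + 1 = 2 * c - 2 * (c - t) + 1 by omega, ← V_X (j := c - t) (by omega) (by omega)]
      exact hV _ (hX _ (by omega) (by omega))

omit [CharP k 2] [PerfectRing k 2] in
theorem X_mem {N : Submodule k (GcMod c k)} (hF : ∀ v ∈ N, F c k v ∈ N)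
    (hX : ∀ j : ℕ, c < 2 * j → j ≤ c → X c k j ∈ N) : ∀ (d j : ℕ), c - j = d → 1 ≤ j → j ≤ c → X c k j ∈ N := by
  intro d
  induction d using Nat.strong_induction_on with
  | _ d ih =>
    intro j hd h1 h2
    by_cases h : c < 2 * j
    · exact hX j h h2
    · rw [← F_X_two_mul h1 (by omega)]
      exact hF _ (ih (c - 2 * j) (by omega) (2 * j) rfl (by omega) (by omega))

theorem span_range_le_and_mem (N : Submodule k (GcMod c k))
    (hN : N = Submodule.span k (Set.range (F c k) ∪ Set.range (V c k))) :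
    (∀ v ∈ N, ∀ i : Fin c, c < 2 * (i.val + 1) → v.1 i = 0) ∧
      (∀ i : Fin c, Y c k (i.val + 1) ∈ N) ∧ ∀ i : Fin c, 2 * (i.val + 1) ≤ c → X c k (i.val + 1) ∈ N := by
  refine ⟨?_, ?_, ?_⟩
  · intro v hv i hi
    rw [hN] at hv
    induction hv using Submodule.span_induction with
    | zero => rfl
    | add a b _ _ ha hb => rw [Prod.fst_add, Pi.add_apply, ha, hb, add_zero]
    | smul r a _ ha => rw [Prod.smul_fst, Pi.smul_apply, ha, smul_zero]
    | mem a ha =>
      rcases ha with ⟨w, rfl⟩ | ⟨w, rfl⟩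
      · show coefX w (2 * (i.val + 1)) ^ 2 = 0
        rw [coefX, dif_neg (by omega)]
        simp
      · rfl
  · intro i
    have := i.isLt
    rw [hN]
    rcases Nat.even_or_odd' (i.val + 1) with ⟨t, ht | ht⟩
    · rw [ht, ← V_Y (j := t) (by omega) (by omega)]
      exact Submodule.subset_span (Or.inr ⟨_, rfl⟩)
    · rw [ht, show 2 * t + 1 = 2 * c - 2 * (c - t) + 1 by omega, ← V_X (j := c - t) (by omega) (by omega)]
      exact Submodule.subset_span (Or.inr ⟨_, rfl⟩)
  · intro i hi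
    rw [hN, ← F_X_two_mul (k := k) (by omega) hi]
    exact Submodule.subset_span (Or.inl ⟨_, rfl⟩)

end Groth.Agent.DieuGc29
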